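import Cfsg.Agent.H27.AH.Assembly
import Cfsg.Agent.H716.SplitAb
import Cfsg.Agent.H400.LieSimple

/-!
# S2451 (helper27): the theorem from the rows

`Rows p` lists the rows (one field for each family of `IsLieTypeChar`); `main_of_rows` is the theorem.
-/

set_option autoImplicit false

namespace Cfsg.Agent.H27.AH

open Cfsg Cfsg.Agent.H330.ClassProd

/-- both rows -/
def NotAC (p : ℕ) (G : Type*) [Group G] : Prop := NotA p G ∧ NotC p G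

/-- The rows needed for the theorem. -/
structure Rows (p : ℕ) : Prop where
  psp : ∀ (F : Type) [Field F] [Fintype F] [CharP F p] (m : ℕ), 2 ≤ m → (m = 2 → 3 ≤ Fintype.card F) → NotAC p (PSp m F)
  psu : ∀ (F : Type) [Field F] [Fintype F] [CharP F p] (n q : ℕ), Fintype.card F = q ^ 2 → 3 ≤ n → ¬ (n = 3 ∧ q = 2) →
    NotAC p (PSU n F q)
  podd : ∀ (F : Type) [Field F] [Fintype F] [CharP F p] (m : ℕ), 3 ≤ m → Odd (Fintype.card F) →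
    NotAC p (POmega F (quadFormOdd m F))
  pplus : ∀ (F : Type) [Field F] [Fintype F] [CharP F p] (m : ℕ), 4 ≤ m → NotAC p (POmega F (quadFormPlus m F))
  pminus : ∀ (F : Type) [Field F] [Fintype F] [CharP F p] (m : ℕ) (a b : F), 4 ≤ m →
    (∀ z₁ z₂ : F, z₁ ^ 2 + a * z₁ * z₂ + b * z₂ ^ 2 = 0 → z₁ = 0 ∧ z₂ = 0) →
    NotAC p (POmega F (quadFormMinus (m - 1) F a b))
  g2 : ∀ (F : Type) [Field F] [Fintype F] [CharP F p], 3 ≤ Fintype.card F → NotAC p ↥(Lie.chevG2.group F)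
  f4 : ∀ (F : Type) [Field F] [Fintype F] [CharP F p], NotAC p ↥(Lie.chevF4.group F)
  e6 : ∀ (F : Type) [Field F] [Fintype F] [CharP F p], NotAC p ↥(Lie.chevE6.group F)
  e7 : ∀ (F : Type) [Field F] [Fintype F] [CharP F p], NotAC p ↥(Lie.chevE7.group F)
  e8 : ∀ (F : Type) [Field F] [Fintype F] [CharP F p], NotAC p ↥(Lie.chevE8.group F)
  twE6 : ∀ (K : Type) [Field K] [Fintype K] [CharP K p] (q : ℕ), IsPrimePow q → Fintype.card K = q ^ 2 →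
    NotAC p ↥(Lie.twistedE6 K q)
  twD4 : ∀ (K : Type) [Field K] [Fintype K] [CharP K p] (q : ℕ), IsPrimePow q → Fintype.card K = q ^ 3 →
    NotAC p ↥(Lie.twistedD4 K q)
  sz : ∀ (G : Type) [Group G], p = 2 → Lie.IsoSuzuki G → NotAC p G
  f4t : ∀ (G : Type) [Group G], p = 2 → Lie.Iso2F4 G → NotAC p G
  ree : ∀ (G : Type) [Group G], p = 3 → Lie.IsoRee G → NotAC p G

theorem NotAC.of_equiv {p : ℕ} {G H : Type*} [Group G] [Group H] (e : G ≃* H) (h : NotAC p H) : NotAC p G :=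
  ⟨NotA.of_equiv e h.1, NotC.of_equiv e h.2⟩

theorem Rows.notAC {p : ℕ} (R : Rows p) {G : Type*} [Group G] (hG : IsLieTypeChar p G) : IsPSLChar p G ∨ NotAC p G := by
  rcases hG with h | h | h | h | h | h | h | h | h | h | h
  · exact Or.inl h
  · obtain ⟨F, _, _, _, m, hm, h2, ⟨e⟩⟩ := h
    exact Or.inr ((R.psp F m hm h2).of_equiv e)
  · obtain ⟨F, _, _, _, n, q, hF, hn, h2, ⟨e⟩⟩ := h
    exact Or.inr ((R.psu F n q hF hn h2).of_equiv e)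
  · obtain ⟨F, _, _, _, m, hm, ho, ⟨e⟩⟩ := h
    exact Or.inr ((R.podd F m hm ho).of_equiv e)
  · obtain ⟨F, _, _, _, m, hm, ⟨e⟩⟩ := h
    exact Or.inr ((R.pplus F m hm).of_equiv e)
  · obtain ⟨F, _, _, _, m, a, b, hm, hab, ⟨e⟩⟩ := h
    exact Or.inr ((R.pminus F m a b hm hab).of_equiv e)
  · obtain ⟨F, _, _, _, ⟨h3, ⟨e⟩⟩ | ⟨⟨e⟩⟩ | ⟨⟨e⟩⟩ | ⟨⟨e⟩⟩ | ⟨⟨e⟩⟩⟩ := h
    · exact Or.inr ((R.g2 F h3).of_equiv e)
    · exact Or.inr ((R.f4 F).of_equiv e)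
    · exact Or.inr ((R.e6 F).of_equiv e)
    · exact Or.inr ((R.e7 F).of_equiv e)
    · exact Or.inr ((R.e8 F).of_equiv e)
  · obtain ⟨K, _, _, _, q, hq, ⟨hK, ⟨e⟩⟩ | ⟨hK, ⟨e⟩⟩⟩ := h
    · exact Or.inr ((R.twE6 K q hq hK).of_equiv e)
    · exact Or.inr ((R.twD4 K q hq hK).of_equiv e)
  · obtain ⟨h2, F, _, _, m, hm, hF, ⟨e⟩⟩ := h
    exact Or.inr ((R.sz _ h2 ⟨F, inferInstance, inferInstance, m, hm, hF, ⟨MulEquiv.refl _⟩⟩).of_equiv e)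
  · obtain ⟨h2, F, _, _, m, hm, hF, ⟨e⟩⟩ := h
    exact Or.inr ((R.f4t _ h2 ⟨F, inferInstance, inferInstance, m, hm, hF, ⟨MulEquiv.refl _⟩⟩).of_equiv e)
  · obtain ⟨h2, F, _, _, m, hm, hF, ⟨e⟩⟩ := h
    exact Or.inr ((R.ree _ h2 ⟨F, inferInstance, inferInstance, m, hm, hF, ⟨MulEquiv.refl _⟩⟩).of_equiv e)

theorem hasSplit_of_ab {p : ℕ} {K : Type*} [Group K] (h : Omega.ML.LieRow.CRB.HasSplitAb p K) : FixBN.HasSplit p K := by
  obtain ⟨B, U, n, hS, -⟩ := h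
  exact ⟨B, U, n, hS⟩

theorem main_of_notAC {G : Type*} [Group G] [Finite G] (p : ℕ) [hp : Fact p.Prime] (hG : IsLieTypeChar p G)
    (hAC : IsPSLChar p G ∨ NotAC p G) (a b c : G) (ha : a ≠ 1) (hb : b ≠ 1) (hc : c ≠ 1)
    (h : {g : G | ∃ u v : G, g = (u * a * u⁻¹) * (v * b * v⁻¹)} = {g : G | IsConj c g}) :
    p ∣ orderOf c ∧ (¬ ∃ k : ℕ, orderOf c = p ^ k) ∧ (p ∣ orderOf a ∨ p ∣ orderOf b) ∧
      ((¬ ∃ k : ℕ, orderOf a = p ^ k) ∨ (¬ ∃ k : ℕ, orderOf b = p ^ k)) := by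
  have hall : AllConj a b c := AllConj.of_eq h
  rcases hAC with hpsl | hAC
  · exfalso
    obtain ⟨F, _, _, _, n, hn, h4, ⟨e⟩⟩ := hpsl
    exact psl_vacuous hn h4 (a := e a) (b := e b) (c := e c) (by simpa using ha) (by simpa using hb)
      (AllConj.map e hall)
  · have : IsSimpleGroup G := H400.LieSimple.isSimple_of_lie hG
    exact of_rows (hasSplit_of_ab (H716.SplitAb.hasSplitAb_of_lie hp.out hG)) hAC.1 hAC.2 ha hb hc hall

end Cfsg.Agent.H27.AH
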