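import Cfsg.Agent.H330.ClassProd
import Cfsg.Prelude.Def_LieTypeChar

/-!
# S2451 (helper27): the two rows

* `NotA p G` : there are no `p`-regular `a, b, c ≠ 1` such that all the products of conjugates of `a` and `b` are
  conjugate to `c`;
* `NotC p G` : there are no `a, b, c ≠ 1` with `c` a `p`-element with this property.
-/

set_option autoImplicit false

namespace Cfsg.Agent.H27.AH

open Cfsg.Agent.H330.ClassProd

/-- (A): all three elements `p`-regular -/
def NotA (p : ℕ) (G : Type*) [Group G] : Prop :=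
  ∀ a b c : G, a ≠ 1 → b ≠ 1 → c ≠ 1 → AllConj a b c →
    ¬ p ∣ orderOf a → ¬ p ∣ orderOf b → ¬ p ∣ orderOf c → False

/-- (C): `c` a `p`-element -/
def NotC (p : ℕ) (G : Type*) [Group G] : Prop :=
  ∀ a b c : G, a ≠ 1 → b ≠ 1 → c ≠ 1 → AllConj a b c → (∃ k : ℕ, orderOf c = p ^ k) → False

section

variable {G H : Type*} [Group G] [Group H]

theorem AllConj.map (e : G ≃* H) {a b c : G} (h : AllConj a b c) : AllConj (e a) (e b) (e c) := by
  intro u v
  obtain ⟨g, hg⟩ := isConj_iff.1 (h (e.symm u) (e.symm v))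
  refine isConj_iff.2 ⟨e g, ?_⟩
  rw [← map_inv, ← map_mul, ← map_mul, hg]
  simp

theorem NotA.of_equiv {p : ℕ} (e : G ≃* H) (h : NotA p H) : NotA p G := by
  intro a b c ha hb hc hab h1 h2 h3
  refine h (e a) (e b) (e c) ?_ ?_ ?_ (AllConj.map e hab) ?_ ?_ ?_
  · simpa using ha
  · simpa using hb
  · simpa using hc
  · rwa [MulEquiv.orderOf_eq]
  · rwa [MulEquiv.orderOf_eq]
  · rwa [MulEquiv.orderOf_eq]

theorem NotC.of_equiv {p : ℕ} (e : G ≃* H) (h : NotC p H) : NotC p G := by
  intro a b c ha hb hc hab h3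
  refine h (e a) (e b) (e c) ?_ ?_ ?_ (AllConj.map e hab) ?_
  · simpa using ha
  · simpa using hb
  · simpa using hc
  · rwa [MulEquiv.orderOf_eq]

/-- (C) passes to the isomorphic copies and inverses -/
theorem AllConj.swapped {a b c : G} (h : AllConj a b c) : AllConj b⁻¹ a⁻¹ c⁻¹ := h.inv

end

end Cfsg.Agent.H27.AH
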