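import Cfsg.Agent.H27.AH.Defs
import Cfsg.Agent.S2272
import Cfsg.Agent.S2450

/-!
# S2451 (helper27): the assembly

* `of_rows` : the theorem from `NotA p G` and `NotC p G`;
* `psl_vacuous` : `PSL_n(F)` has no product of two classes which is a class.
-/

set_option autoImplicit false

namespace Cfsg.Agent.H27.AH

open Cfsg Cfsg.Agent.H330.ClassProd

/-- two `p`-elements have conjugates whose product is a `p`-element -/
theorem exists_pow_mul {G : Type*} [Group G] [Finite G] {p : ℕ} [hp : Fact p.Prime] {a b : G}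
    (ha : ∃ k : ℕ, orderOf a = p ^ k) (hb : ∃ k : ℕ, orderOf b = p ^ k) :
    ∃ g : G, ∃ k : ℕ, orderOf (a * (g * b * g⁻¹)) = p ^ k := by
  classical
  have hA : IsPGroup p (Subgroup.zpowers a) := by
    obtain ⟨k, hk⟩ := ha
    exact IsPGroup.of_card (n := k) (by rw [Nat.card_zpowers, hk])
  have hB : IsPGroup p (Subgroup.zpowers b) := by
    obtain ⟨k, hk⟩ := hb
    exact IsPGroup.of_card (n := k) (by rw [Nat.card_zpowers, hk])
  obtain ⟨P, hP⟩ := hA.exists_le_sylow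
  obtain ⟨Q, hQ⟩ := hB.exists_le_sylow
  obtain ⟨g, hg⟩ := MulAction.exists_smul_eq G Q P
  have h1 : a ∈ (P : Subgroup G) := hP (Subgroup.mem_zpowers a)
  have h2 : g * b * g⁻¹ ∈ (P : Subgroup G) := by
    rw [← hg, Sylow.coe_subgroup_smul, Subgroup.mem_pointwise_smul_iff_inv_smul_mem]
    have e : (MulAut.conj g)⁻¹ • (g * b * g⁻¹) = b := by
      rw [MulAut.smul_def, MulAut.conj_inv_apply]
      group
    rw [e]
    exact hQ (Subgroup.mem_zpowers b)
  have h3 : a * (g * b * g⁻¹) ∈ (P : Subgroup G) := mul_mem h1 h2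
  obtain ⟨k, hk⟩ := P.2 ⟨_, h3⟩
  have h4 : (a * (g * b * g⁻¹)) ^ p ^ k = 1 := by
    have := congrArg Subtype.val hk
    simpa using this
  obtain ⟨j, -, hj⟩ := (Nat.dvd_prime_pow hp.out).1 (orderOf_dvd_of_pow_eq_one h4)
  exact ⟨g, j, hj⟩

theorem of_rows {G : Type*} [Group G] [Finite G] {p : ℕ} [hp : Fact p.Prime] (hS : FixBN.HasSplit p G)
    (hA : NotA p G) (hC : NotC p G) {a b c : G} (ha : a ≠ 1) (hb : b ≠ 1) (hc : c ≠ 1) (h : AllConj a b c) :
    p ∣ orderOf c ∧ (¬ ∃ k : ℕ, orderOf c = p ^ k) ∧ (p ∣ orderOf a ∨ p ∣ orderOf b) ∧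
      ((¬ ∃ k : ℕ, orderOf a = p ^ k) ∨ (¬ ∃ k : ℕ, orderOf b = p ^ k)) := by
  have h1 : ¬ ∃ k : ℕ, orderOf c = p ^ k := fun hk => hC a b c ha hb hc h hk
  have h2 : ¬ (¬ p ∣ orderOf a ∧ ¬ p ∣ orderOf b) := fun hab =>
    hA a b c ha hb hc h hab.1 hab.2 ((h.regular_iff hS).2 hab)
  have h3 : p ∣ orderOf c := by
    by_contra h4
    exact h2 ((h.regular_iff hS).1 h4)
  refine ⟨h3, h1, by tauto, ?_⟩
  by_contra h4
  push Not at h4
  obtain ⟨g, hg⟩ := exists_pow_mul (p := p) h4.1 h4.2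
  have h5 := h 1 g
  rw [one_mul, inv_one, mul_one] at h5
  apply h1
  rw [← orderOf_of_isConj h5]
  exact hg

/-- `PSL_n(F)`: no product of two classes is a class -/
theorem psl_vacuous {F : Type*} [Field F] [Fintype F] {n : ℕ} (hn : 2 ≤ n) (h4 : n = 2 → 4 ≤ Fintype.card F)
    {a b c : Matrix.ProjectiveSpecialLinearGroup (Fin n) F} (ha : a ≠ 1) (hb : b ≠ 1) (h : AllConj a b c) : False := by
  rcases Nat.lt_or_ge 2 n with h2 | h2
  · obtain ⟨g, k, hgk⟩ := S2272.result n h2 a b ha hb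
    exact hgk ((h.mul).symm.trans (h g k))
  · obtain rfl : n = 2 := by omega
    refine S2450.result (h4 rfl) a b ha hb c ?_
    ext g
    constructor
    · rintro ⟨u, v, rfl⟩
      exact h u v
    · intro hg
      have h5 : IsConj (a * b) g := h.mul.symm.trans hg
      obtain ⟨x, rfl⟩ := isConj_iff.1 h5
      exact ⟨x, x, by group⟩

end Cfsg.Agent.H27.AH
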