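import Cfsg.Agent.H27.AH.Main
import Cfsg.Agent.H27.AH.RowF
import Cfsg.Agent.H144.AH.PSpC
import Cfsg.Agent.H519.AH.PSUAll
import Cfsg.Agent.H530.NA.Fin
import Cfsg.Agent.H530.NA.MinMain
import Cfsg.Agent.H197.Cls.RowE
import Cfsg.Agent.H82.AH.RowC
import Cfsg.Agent.H330.ClassRowPlus
import Cfsg.Agent.H330.ClassRowsE
import Cfsg.Agent.H330.ClassF4
import Cfsg.Agent.H445.AH.ORows
import Cfsg.Agent.H650.AH.RowG2
import Cfsg.Agent.H650.AH.RowTwD4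
import Cfsg.Agent.H743.AH.Sz
import Cfsg.Agent.H743.AH.Ree
import Cfsg.Agent.H743.AH.TwFA
import Cfsg.Agent.H743.AH.TwFCRow
import Cfsg.Agent.H743.AH.SixRow

/-!
# S2451 (helper27): all the rows
-/

set_option autoImplicit false

namespace Cfsg.Agent.H27.AH

open Cfsg

theorem rows (p : ℕ) [hp : Fact p.Prime] : Rows p where
  psp F _ _ _ m hm h2 := H144.AH.psp_row F m hm h2
  psu F _ _ _ n q hF hn h2 := H519.AH.notAC_psu F n q hF hn h2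
  podd F _ _ _ m hm ho := ⟨H530.NA.notA_oodd hm ho, H445.AH.notC_podd F p m hm ho⟩
  pplus F _ _ _ m hm := ⟨H330.ClassRowPlus.notA_plus F p hm, H445.AH.notC_pplus F p m hm⟩
  pminus F _ _ _ m a b hm hab := ⟨H530.NA.notA_ominus hm a b hab, H445.AH.notC_pminus F p m a b hm hab⟩
  g2 F _ _ _ h3 := ⟨H650.AH.RowG2.notA_g2 F p h3, H82.AH.notC_G2 F h3⟩
  f4 F _ _ _ := ⟨H330.ClassF4.notA_F4 F p, RowF.notC_F4 F p⟩
  e6 F _ _ _ := ⟨H330.ClassRowsE.notA_E6 F p, H197.Cls.notC_E6 F p⟩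
  e7 F _ _ _ := ⟨H330.ClassRowsE.notA_E7 F p, H197.Cls.notC_E7 F p⟩
  e8 F _ _ _ := ⟨H330.ClassRowsE.notA_E8 F p, H197.Cls.notC_E8 F p⟩
  twE6 K _ _ _ q hq hK := ⟨H743.AH.SixRow.notA_twE6 K p q hq hK, RowF.notC_twE6 K p hq hK⟩
  twD4 K _ _ _ q hq hK := ⟨H650.AH.RowTwD4.notA_twD4 K p q hq hK, H82.AH.notC_twD4 K q hq hK⟩
  sz G _ h2 h := by
    subst h2
    exact ⟨H743.AH.Suz.notA_suzuki h, H743.AH.Suz.notC_suzuki h⟩
  f4t G _ h2 h := H743.AH.TwF.row G h2 h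
  ree G _ h2 h := by
    subst h2
    obtain ⟨F, i1, i2, m, hm, hF, ⟨e⟩⟩ := h
    have hs : IsSimpleGroup G := H400.LieSimple.isSimple_of_lie (p := 3)
      (Or.inr (Or.inr (Or.inr (Or.inr (Or.inr (Or.inr (Or.inr (Or.inr (Or.inr (Or.inr
        ⟨rfl, F, i1, i2, m, hm, hF, ⟨e⟩⟩))))))))))
    exact ⟨H743.AH.Ree.notA_ree ⟨F, i1, i2, m, hm, hF, ⟨e⟩⟩, H743.AH.Ree.notC_ree ⟨F, i1, i2, m, hm, hF, ⟨e⟩⟩⟩

end Cfsg.Agent.H27.AH
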